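import Cfsg.Agent.H73.Suz.Core

/-!
Groups with an involution whose centraliser is `2^(1+6).Ω⁻₆(2)`, part 2: the involutions of the
centraliser form at most two classes of the ambient group.
-/

set_option autoImplicit false
set_option linter.unusedSectionVars false

namespace H73.Suz

open H69 (lxQ LXFam)

theorem un_natural {g : ℕ → ℕ} (I : IsIso g) (h1 : g 1 = 1) {w v : ℕ} (hw : w < 64) (hv : v < 64) :
    un (g w) (g v) = g (un w v) := by
  have hB : Bb (g v) 1 = Bb v 1 := by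
    conv_lhs => rw [← h1]
    exact I.map_B hv (by norm_num)
  simp only [un, I.map_B hv hw, hB, I.form w hw]
  cases Bb v w <;> cases Bb v 1 <;> cases qb w <;>
    simp only [Bool.false_eq_true, if_false, if_true, Nat.xor_zero] <;>
    simp [I.add, hv, hw, h1, xlt]

theorem seven {a b c : ℕ} (ha : a < 64) (hb : b < 64) (hc : c < 64) :
    (((qb (a ^^^ b ^^^ c) ^^ qb (a ^^^ b)) ^^ (qb (a ^^^ c) ^^ qb (b ^^^ c))) ^^
      ((qb a ^^ qb b) ^^ qb c)) = false := by
  rw [qb_add (a ^^^ b) c, qb_add a b, qb_add a c, qb_add b c, Bb_add_left ha hb hc]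
  generalize qb a = p₁
  generalize qb b = p₂
  generalize qb c = p₃
  generalize Bb a b = p₄
  generalize Bb a c = p₅
  generalize Bb b c = p₆
  revert p₁ p₂ p₃ p₄ p₅ p₆
  decide

theorem sing_count : ((Finset.range 64).filter fun n => qb n = false).card = 28 := by decide +kernel

theorem w_in : InW 2 ∧ InW 8 ∧ InW 26 ∧ InW 10 ∧ InW 24 ∧ InW 18 ∧ InW 16 ∧ InW 0 := by
  unfold InW; decide

theorem shift_two : ∀ v < 64, un 2 v ^^^ v = 0 →
    ∃ n < 64, un 2 n ^^^ v ^^^ n ∈ [0, 16, 32, 48] := by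
  decide +kernel

theorem shift_sixteen : ∀ v < 64, un 16 v ^^^ v = 1 →
    ∃ n < 64, un 16 n ^^^ v ^^^ n ∈ [32, 34, 40, 42] := by
  decide +kernel

theorem step_two : ∀ p ∈ [((16 : ℕ), (32 : ℕ)), (32, 48), (48, 16)], ∀ e ∈ [(0 : ℕ), 1],
    ∃ n < 64, un 2 n ^^^ (e ^^^ tp 16 32 p.1) ^^^ n = p.2 := by
  decide +kernel

theorem step_sixteen : ∀ p ∈ [((32 : ℕ), (34 : ℕ)), (34, 40), (40, 32)], ∀ e ∈ [(0 : ℕ), 1],
    ∃ n < 64, un 16 n ^^^ (e ^^^ tp 18 10 p.1) ^^^ n = p.2 := by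
  decide +kernel

namespace Data

variable {G : Type*} [Group G] [Finite G] {z : G} {Q : Subgroup G} {co : G → ℕ} {s : G}

theorem co_s_cases (H : Data z Q co) (hs : s ∈ Q) (hs1 : co s = 1) {d : G}
    (hd : d = 1 ∨ d = z ∨ d = s ∨ d = s * z) :
    d ∈ Q ∧ (co d = 0 ∨ co d = 1) ∧ d * d = 1 := by
  have hss := H.s_sq hs hs1
  rcases hd with rfl | rfl | rfl | rfl
  · exact ⟨one_mem Q, Or.inl H.co_one, one_mul 1⟩
  · exact ⟨H.zmem, Or.inl H.coz, H.zz⟩
  · exact ⟨hs, Or.inr hs1, hss⟩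
  · refine ⟨mul_mem hs H.zmem, Or.inr (by rw [H.co_mul_z hs, hs1]), ?_⟩
    calc s * z * (s * z) = s * (z * s) * z := by group
      _ = 1 := by rw [← (H.comm_z hs).eq, ← mul_assoc, hss, one_mul, H.zz]

theorem d_comm (H : Data z Q co) {r d : G} (hr : r ∈ Rs z Q s)
    (hd : d = 1 ∨ d = z ∨ d = s ∨ d = s * z) : Commute r d := by
  obtain ⟨h1, h2⟩ := mem_Rs.mp hr
  rcases hd with rfl | rfl | rfl | rfl
  exacts [Commute.one_right r, h2, H.comm_s h1, (H.comm_s h1).mul_right h2]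

theorem rr_cases (H : Data z Q co) (hs : s ∈ Q) (hs1 : co s = 1) {r : G} (hr : r ∈ Rs z Q s) :
    r * r = 1 ∨ r * r = s :=
  H.fam.mul_self_cases (H.sing_one hs hs1) (mem_Rs.mp hr).1

theorem acts_inv (H : Data z Q co) (hs : s ∈ Q) (hs1 : co s = 1) {r : G} (hr : r ∈ Rs z Q s)
    {g : ℕ → ℕ} (hg : Acts Q co r g) : Acts Q co r⁻¹ g := by
  have hrr : r * r ∈ Q ∧ r⁻¹ = r * (r * r) := by
    rcases H.rr_cases hs hs1 hr with h | h <;> rw [h]
    · exact ⟨one_mem Q, by rw [mul_one]; exact inv_eq_of_mul_eq_one_right h⟩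
    · refine ⟨hs, inv_eq_of_mul_eq_one_right ?_⟩
      rw [← mul_assoc, h, H.s_sq hs hs1]
  rw [hrr.2]
  exact H.acts_mul (H.comm_z hrr.1) hg (H.acts_mem hrr.1)

theorem label_mul (H : Data z Q co) (hs : s ∈ Q) (hs1 : co s = 1) {r r' : G} {w w' : ℕ}
    (hw : InW w) (hw' : InW w') (hr : r ∈ Rs z Q s) (hr' : r' ∈ Rs z Q s)
    (h : Acts Q co r (un w)) (h' : Acts Q co r' (un w')) :
    Acts Q co (r * r') (un (w ^^^ w')) := by
  obtain ⟨u, hu, hact⟩ := H.exists_label hs hs1 (mul_mem hr hr')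
  have e := H.acts_unique hact (H.acts_mul (mem_Rs.mp hr').2 h h') 4 (by norm_num)
  have e1 := (un_facts u hu.1 hu.2.1 hu.2.2).1
  rw [e, un_comp w hw.1 hw.2.1 hw.2.2 w' hw'.1 hw'.2.1 hw'.2.2] at e1
  rw [e1]; exact hact

theorem label_conj (H : Data z Q co) {r c : G} {g : ℕ → ℕ} {w : ℕ} (hw : w < 64)
    (hrz : Commute r z) (hc : Commute c z) (hg : Acts Q co c g) (I : IsIso g) (h1 : g 1 = 1)
    (h : Acts Q co r (un w)) : Acts Q co (c * r * c⁻¹) (un (g w)) := by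
  intro q hq
  have hq' : c⁻¹ * q * c ∈ Q := by simpa using H.nor c⁻¹ hc.inv_left.eq q hq
  have e : g (co (c⁻¹ * q * c)) = co q := by rw [← hg _ hq']; congr 1; group
  rw [show c * r * c⁻¹ * q * (c * r * c⁻¹)⁻¹ = c * (r * (c⁻¹ * q * c) * r⁻¹) * c⁻¹ by group,
    hg _ (H.nor r hrz.eq _ hq'), h _ hq', ← e, un_natural I h1 hw (H.lt _)]

theorem conj_Rs (H : Data z Q co) {r c : G} (hc : Commute c z) (hcs : Commute c s)
    (hr : r ∈ Rs z Q s) : c * r * c⁻¹ ∈ Rs z Q s := by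
  obtain ⟨h1, h2⟩ := mem_Rs.mp hr
  exact mem_Rs.mpr ⟨H.fam.conj_mem h1 hcs, (hc.mul_left h2).mul_left hc.inv_left⟩

/-- Conjugation inside the stabiliser reduces labels to `2` and `16`. -/
theorem label_move (H : Data z Q co) (hs : s ∈ Q) (hs1 : co s = 1) {r : G} {w : ℕ} (hw : InW w)
    (hw0 : w ≠ 0) (hrz : Commute r z) (h : Acts Q co r (un w)) :
    ∃ c, Commute c z ∧ Commute c s ∧
      Acts Q co (c * r * c⁻¹) (un (if qb w then 16 else 2)) := by
  obtain ⟨a, ha, haq, ha1, b, hb, hbq, hb1, hab⟩ := w_reach w hw.1 hw.2.1 hw.2.2 hw0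
  obtain ⟨c, hc, hcs, hact⟩ := H.exists_stab hs hs1 ha haq ha1 hb hbq hb1
  obtain ⟨g, hg, I⟩ := H.exists_act hc
  have e : ∀ v, v < 64 → g v = tp a b v := H.acts_unique hg hact
  have h1 : g 1 = 1 := by
    rw [e 1 (by norm_num)]
    simp only [tp, tv, Bb_comm 1 b, hb1, Bool.false_eq_true, if_false, Bb_comm 1 a, ha1]
  have hgw : Bb (g w) 1 = false := by
    conv_lhs => rw [← h1]
    rw [I.map_B hw.1 (by norm_num)]
    exact (un_facts w hw.1 hw.2.1 hw.2.2).2.2.1
  refine ⟨c, hc, hcs, H.acts_congr (H.label_conj hw.1 hrz hc hg I h1 h) fun v hv => ?_⟩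
  rw [← hab, ← e w hw.1, un_norm _ (I.lt w hw.1) hgw v hv]

theorem sq_invariant (H : Data z Q co) (hs : s ∈ Q) (hs1 : co s = 1) {r r' : G} {w w' : ℕ}
    (hw : InW w) (hw' : InW w') (hw0 : w ≠ 0) (hw0' : w' ≠ 0) (hq : qb w = qb w')
    (hr : r ∈ Rs z Q s) (hr' : r' ∈ Rs z Q s) (h : Acts Q co r (un w))
    (h' : Acts Q co r' (un w')) : r * r = 1 ↔ r' * r' = 1 := by
  obtain ⟨c, hc, hcs, hca⟩ := H.label_move hs hs1 hw hw0 (mem_Rs.mp hr).2 h
  obtain ⟨d, hd, hds, hda⟩ := H.label_move hs hs1 hw' hw0' (mem_Rs.mp hr').2 h'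
  rw [← hq] at hda
  obtain ⟨e, he, hee⟩ := H.same_label hs hs1 (H.conj_Rs hc hcs hr) (H.conj_Rs hd hds hr') hca hda
  have h1 : c * r * c⁻¹ * e * (c * r * c⁻¹ * e) = c * r * c⁻¹ * (c * r * c⁻¹) := by
    have hx := (H.d_comm (H.conj_Rs hc hcs hr) he).eq
    revert hx
    generalize c * r * c⁻¹ = x
    intro hx
    calc x * e * (x * e) = x * (e * x) * e := by group
      _ = x * x * (e * e) := by rw [← hx]; group
      _ = x * x := by rw [(H.co_s_cases hs hs1 he).2.2, mul_one]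
  calc r * r = 1 ↔ c * r * c⁻¹ * (c * r * c⁻¹) = 1 := by
        rw [show c * r * c⁻¹ * (c * r * c⁻¹) = c * (r * r) * c⁻¹ by group, conj_eq_one_iff]
    _ ↔ d * r' * d⁻¹ * (d * r' * d⁻¹) = 1 := by rw [hee, h1]
    _ ↔ r' * r' = 1 := by
        rw [show d * r' * d⁻¹ * (d * r' * d⁻¹) = d * (r' * r') * d⁻¹ by group, conj_eq_one_iff]

set_option maxHeartbeats 1000000 in
/-- An element of `Rs` is an involution or trivial exactly when its label is singular. -/
theorem sq_label (H : Data z Q co) (hs : s ∈ Q) (hs1 : co s = 1) {r : G} {w : ℕ} (hw : InW w)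
    (hw0 : w ≠ 0) (hr : r ∈ Rs z Q s) (h : Acts Q co r (un w)) :
    r * r = 1 ↔ qb w = false := by
  obtain ⟨W2, W8, W26, W10, W24, W18, W16, W0⟩ := w_in
  obtain ⟨a, ha, haA⟩ := H.exists_of_label hs hs1 W2
  obtain ⟨b, hb, hbA⟩ := H.exists_of_label hs hs1 W8
  obtain ⟨c, hc, hcA⟩ := H.exists_of_label hs hs1 W26
  have habA : Acts Q co (a * b) (un 10) := by
    rw [show (10 : ℕ) = 2 ^^^ 8 by decide]; exact H.label_mul hs hs1 W2 W8 ha hb haA hbA
  have hacA : Acts Q co (a * c) (un 24) := by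
    rw [show (24 : ℕ) = 2 ^^^ 26 by decide]; exact H.label_mul hs hs1 W2 W26 ha hc haA hcA
  have hbcA : Acts Q co (b * c) (un 18) := by
    rw [show (18 : ℕ) = 8 ^^^ 26 by decide]; exact H.label_mul hs hs1 W8 W26 hb hc hbA hcA
  have habcA : Acts Q co (a * b * c) (un 16) := by
    rw [show (16 : ℕ) = 10 ^^^ 26 by decide]
    exact H.label_mul hs hs1 W10 W26 (mul_mem ha hb) hc habA hcA
  have sA : ∀ {t : G} {u : ℕ}, InW u → u ≠ 0 → qb u = false → t ∈ Rs z Q s →
      Acts Q co t (un u) → (t * t = 1 ↔ a * a = 1) := fun hu hu0 hq ht hA =>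
    H.sq_invariant hs hs1 hu W2 hu0 (by decide) (by rw [hq]; rfl) ht ha hA haA
  have sN : ∀ {t : G} {u : ℕ}, InW u → u ≠ 0 → qb u = true → t ∈ Rs z Q s →
      Acts Q co t (un u) → (t * t = 1 ↔ a * b * c * (a * b * c) = 1) := fun hu hu0 hq ht hA =>
    H.sq_invariant hs hs1 hu W16 hu0 (by decide) (by rw [hq]; rfl) ht (mul_mem (mul_mem ha hb) hc)
      hA habcA
  -- coordinates on the subgroup attached to `s`
  obtain ⟨g, hg⟩ := H.sing_one hs hs1
  have hgQ : ∀ x ∈ Rs z Q s, g⁻¹ * x * g ∈ Q := fun x hx => by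
    have h1 := (mem_Rs.mp hx).1
    rw [← hg] at h1
    have := H.fam.mem_Q_conj' g h1
    rwa [H.lxQ_z] at this
  have hσ : ∀ x ∈ Rs z Q s, (x * x = 1 ↔ qb (co (g⁻¹ * x * g)) = false) := by
    intro x hx
    rw [← H.sq_one (hgQ x hx),
      show g⁻¹ * x * g * (g⁻¹ * x * g) = g⁻¹ * (x * x) * g⁻¹⁻¹ by group, conj_eq_one_iff]
  have hmul : ∀ x ∈ Rs z Q s, ∀ y ∈ Rs z Q s,
      co (g⁻¹ * (x * y) * g) = co (g⁻¹ * x * g) ^^^ co (g⁻¹ * y * g) := fun x hx y hy => by
    rw [← H.mul _ (hgQ x hx) _ (hgQ y hy)]; congr 1; group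
  have ha1 : a * a = 1 := by
    by_contra hna
    have hb' := sA W8 (by norm_num) (by decide) hb hbA
    have hc' := sA W26 (by norm_num) (by decide) hc hcA
    have hab' := sN W10 (by norm_num) (by decide) (mul_mem ha hb) habA
    have hac' := sN W24 (by norm_num) (by decide) (mul_mem ha hc) hacA
    have hbc' := sN W18 (by norm_num) (by decide) (mul_mem hb hc) hbcA
    rw [hσ _ hb, hσ _ ha] at hb'
    rw [hσ _ hc, hσ _ ha] at hc'
    rw [hσ _ (mul_mem ha hb), hσ _ (mul_mem (mul_mem ha hb) hc), hmul _ (mul_mem ha hb) _ hc,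
      hmul _ ha _ hb] at hab'
    rw [hσ _ (mul_mem ha hc), hσ _ (mul_mem (mul_mem ha hb) hc), hmul _ (mul_mem ha hb) _ hc,
      hmul _ ha _ hb, hmul _ ha _ hc] at hac'
    rw [hσ _ (mul_mem hb hc), hσ _ (mul_mem (mul_mem ha hb) hc), hmul _ (mul_mem ha hb) _ hc,
      hmul _ ha _ hb, hmul _ hb _ hc] at hbc'
    rw [hσ _ ha] at hna
    have h7 := seven (H.lt (g⁻¹ * a * g)) (H.lt (g⁻¹ * b * g)) (H.lt (g⁻¹ * c * g))
    revert hna hb' hc' hab' hac' hbc' h7
    generalize qb (co (g⁻¹ * a * g) ^^^ co (g⁻¹ * b * g) ^^^ co (g⁻¹ * c * g)) = p₁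
    generalize qb (co (g⁻¹ * a * g) ^^^ co (g⁻¹ * b * g)) = p₂
    generalize qb (co (g⁻¹ * a * g) ^^^ co (g⁻¹ * c * g)) = p₃
    generalize qb (co (g⁻¹ * b * g) ^^^ co (g⁻¹ * c * g)) = p₄
    generalize qb (co (g⁻¹ * a * g)) = p₅
    generalize qb (co (g⁻¹ * b * g)) = p₆
    generalize qb (co (g⁻¹ * c * g)) = p₇
    intro u1 u2 u3 u4 u5 u6 u7
    cases p₅ <;> cases p₁ <;> cases p₆ <;> cases p₇ <;> cases p₂ <;> cases p₃ <;> cases p₄ <;>
      simp at *
  have hn1 : a * b * c * (a * b * c) ≠ 1 := by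
    classical
    intro habs
    have hall : ∀ x ∈ Rs z Q s, x * x = 1 := by
      intro x hx
      obtain ⟨u, hu, hA⟩ := H.exists_label hs hs1 hx
      by_cases hu0 : u = 0
      · have hid : Acts Q co x id := H.acts_congr hA fun v hv =>
          (un_facts u hu.1 hu.2.1 hu.2.2).2.2.2 hu0 v hv
        have hxQ := H.faithful x (mem_Rs.mp hx).2 hid
        exact (H.co_s_cases hs hs1 (H.inter_elems hs hs1 hxQ (mem_Rs.mp hx).1)).2.2
      · cases hq : qb u
        · exact (sA hu hu0 hq hx hA).mpr ha1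
        · exact (sN hu hu0 hq hx hA).mpr habs
    have := Fintype.ofFinite G
    let S : Finset G := Finset.univ.filter (· ∈ Rs z Q s)
    have himg : S.image (fun x => co (g⁻¹ * x * g)) ⊆
        (Finset.range 64).filter fun n => qb n = false := by
      intro n hn
      obtain ⟨x, hx, rfl⟩ := Finset.mem_image.mp hn
      have hx' : x ∈ Rs z Q s := (Finset.mem_filter.mp hx).2
      exact Finset.mem_filter.mpr ⟨Finset.mem_range.mpr (H.lt _), (hσ x hx').mp (hall x hx')⟩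
    have hfib : ∀ n ∈ S.image (fun x => co (g⁻¹ * x * g)),
        (S.filter fun x => co (g⁻¹ * x * g) = n).card ≤ 2 := by
      intro n hn
      obtain ⟨x, hx, rfl⟩ := Finset.mem_image.mp hn
      refine le_trans (Finset.card_le_card (t := [x, g * (g⁻¹ * x * g * z) * g⁻¹].toFinset) ?_)
        (List.toFinset_card_le _)
      intro y hy
      obtain ⟨hyS, e⟩ := Finset.mem_filter.mp hy
      rcases H.co_eq (hgQ x (Finset.mem_filter.mp hx).2) (hgQ y (Finset.mem_filter.mp hyS).2) e.symm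
        with h | h
      · have : y = x := mul_left_cancel (mul_right_cancel h)
        simp [this]
      · have : y = g * (g⁻¹ * x * g * z) * g⁻¹ := by rw [← h]; group
        rw [List.mem_toFinset, this]; simp
    have h1 := Finset.card_le_mul_card_image S 2 hfib
    have h2 := Finset.card_le_card himg
    rw [sing_count] at h2
    have h3 := H.le_card_Rs hs hs1
    have h4 : Nat.card (Rs z Q s) = S.card := by
      rw [Nat.card_eq_fintype_card, Fintype.card_subtype]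
    omega
  cases hq : qb w
  · exact ⟨fun _ => rfl, fun _ => (sA hw hw0 hq hr h).mpr ha1⟩
  · exact ⟨fun hh => absurd ((sN hw hw0 hq hr h).mp hh) hn1, fun hh => Bool.noConfusion hh⟩

/-- Normal form of an involution of the centraliser outside `Q`. -/
theorem normal_form (H : Data z Q co) (hs : s ∈ Q) (hs1 : co s = 1) {t : G} (ht : t * t = 1)
    (htz : Commute t z) (htQ : t ∉ Q) :
    ∃ c, Commute c z ∧ (Acts Q co (c * t * c⁻¹) (un 2) ∨ Acts Q co (c * t * c⁻¹) (un 16)) := by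
  obtain ⟨σ, hσ, hσ0, hσq, hfix, htriv⟩ := H.axis t htz htQ (by rw [ht]; exact one_mem Q)
  obtain ⟨a, ha, rfl⟩ := H.surj σ hσ
  obtain ⟨c, hc, hca⟩ := H.sing_trans ha hs hσ0 (by rw [hs1]; decide) hσq (by rw [hs1]; rfl)
  set t' := c * t * c⁻¹ with ht'
  have ht'z : Commute t' z := (hc.mul_left htz).mul_left hc.inv_left
  obtain ⟨g, hg, I⟩ := H.exists_act ht'z
  obtain ⟨gc, hgc, Ic⟩ := H.exists_act hc
  have e1 : gc (co a) = 1 := by rw [← hgc a ha, hca, hs1]
  have conj_t' : ∀ q ∈ Q, g (gc (co q)) = gc (co (t * q * t⁻¹)) := fun q hq => by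
    rw [← hgc q hq, ← hg _ (H.nor c hc.eq q hq), ← hgc _ (H.nor t htz.eq q hq), ht']
    congr 1; group
  have h1 : g 1 = 1 := by
    have := conj_t' a ha
    rw [e1, hfix a ha rfl, e1] at this
    exact this
  have ht1 : ∀ x, x < 64 → Bb x 1 = false → g x = x ∨ g x = x ^^^ 1 := by
    intro x hx hx1
    obtain ⟨q', hq', rfl⟩ := H.surj x hx
    have hq : c⁻¹ * q' * c ∈ Q := by simpa using H.nor c⁻¹ hc.inv_left.eq q' hq'
    have e : gc (co (c⁻¹ * q' * c)) = co q' := by rw [← hgc _ hq]; congr 1; group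
    have hB : Bb (co (c⁻¹ * q' * c)) (co a) = false := by
      rw [← Ic.map_B (H.lt _) (H.lt _), e, e1, hx1]
    have h := conj_t' _ hq
    rw [e] at h
    rcases htriv _ hq hB with h' | h' <;> rw [h'] at h
    · rw [e] at h; exact Or.inl h
    · rw [Ic.add _ (H.lt _) _ (H.lt _), e, e1] at h; exact Or.inr h
  obtain ⟨hw1, hgw⟩ := I.eq_un h1 ht1
  have hw64 : g 4 ^^^ 4 < 64 := xlt (I.lt 4 (by norm_num)) (by norm_num)
  obtain ⟨n1, n2, n3, -, -⟩ := w_norm _ hw64 hw1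
  have hact : Acts Q co t' (un ((g 4 ^^^ 4) &&& 58)) :=
    H.acts_congr hg fun v hv => by rw [hgw v hv, un_norm _ hw64 hw1 v hv]
  have hw0 : (g 4 ^^^ 4) &&& 58 ≠ 0 := by
    intro h0
    apply htQ
    have hid : Acts Q co t' id := H.acts_congr hact fun v hv =>
      (un_facts _ n1 n2 n3).2.2.2 h0 v hv
    have := H.nor c⁻¹ hc.inv_left.eq _ (H.faithful t' ht'z hid)
    rwa [ht', show c⁻¹ * (c * t * c⁻¹) * c⁻¹⁻¹ = t by group] at this
  obtain ⟨d, hd, -, hda⟩ := H.label_move hs hs1 ⟨n1, n2, n3⟩ hw0 ht'z hact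
  refine ⟨d * c, hd.mul_left hc, ?_⟩
  rw [show d * c * t * (d * c)⁻¹ = d * (c * t * c⁻¹) * d⁻¹ by group]
  cases hq : qb ((g 4 ^^^ 4) &&& 58) <;> rw [hq] at hda
  · exact Or.inl hda
  · exact Or.inr hda

/-- Conjugating a product `r q` by an element of `Q`. -/
theorem shift (H : Data z Q co) (hs : s ∈ Q) (hs1 : co s = 1) {r q x : G} {g : ℕ → ℕ}
    (hr : r ∈ Rs z Q s) (h : Acts Q co r g) (hq : q ∈ Q) (hx : x ∈ Q) :
    ∃ q' ∈ Q, co q' = g (co x) ^^^ co q ^^^ co x ∧ x * (r * q) * x⁻¹ = r * q' := by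
  have hm : r⁻¹ * x * r ∈ Q := by simpa using H.nor r⁻¹ (mem_Rs.mp hr).2.inv_left.eq x hx
  refine ⟨r⁻¹ * x * r * q * x⁻¹, mul_mem (mul_mem hm hq) (inv_mem hx), ?_, by group⟩
  rw [H.mul _ (mul_mem hm hq) _ (inv_mem hx), H.mul _ hm _ hq, H.co_inv hx]
  congr 2
  have := H.acts_inv hs hs1 hr h x hx
  simpa using this

/-- `(r q)² = 1` for all (equivalently one) `q` with coordinates `v`. -/
def InvAt (Q : Subgroup G) (co : G → ℕ) (r : G) (v : ℕ) : Prop :=
  ∀ q ∈ Q, co q = v → r * q * (r * q) = 1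

theorem invAt_of (H : Data z Q co) {r q : G} (hrz : Commute r z) (hq : q ∈ Q)
    (h : r * q * (r * q) = 1) : InvAt Q co r (co q) := by
  intro q' hq' e
  rcases H.co_eq hq hq' e.symm with rfl | rfl
  · exact h
  · have hz' : Commute z (r * q) := hrz.symm.mul_right (H.comm_z hq).symm
    calc r * (q * z) * (r * (q * z)) = r * q * (z * (r * q)) * z := by group
      _ = r * q * (r * q) * z * z := by rw [hz'.eq]; group
      _ = 1 := by rw [H.mul_z_mul_z, h]

theorem invAt_shift (H : Data z Q co) (hs : s ∈ Q) (hs1 : co s = 1) {r : G} {g : ℕ → ℕ} {v n : ℕ}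
    (hr : r ∈ Rs z Q s) (h : Acts Q co r g) (hv : v < 64) (hn : n < 64) (hi : InvAt Q co r v) :
    InvAt Q co r (g n ^^^ v ^^^ n) := by
  obtain ⟨q, hq, rfl⟩ := H.surj v hv
  obtain ⟨x, hx, rfl⟩ := H.surj n hn
  obtain ⟨q', hq', e, e'⟩ := H.shift hs hs1 hr h hq hx
  rw [← e]
  refine H.invAt_of (mem_Rs.mp hr).2 hq' ?_
  rw [← e', show x * (r * q) * x⁻¹ * (x * (r * q) * x⁻¹) = x * (r * q * (r * q)) * x⁻¹ by group,
    hi q hq rfl, mul_one, mul_inv_cancel]

/-- Moving `r q` by an element of the stabiliser that preserves the label of `r`. -/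
theorem invAt_cycle (H : Data z Q co) (hs : s ∈ Q) (hs1 : co s = 1) {r : G} {k a b v v' : ℕ}
    (hk : InW k) (hr : r ∈ Rs z Q s) (h : Acts Q co r (un k)) (ha : a < 64) (haq : qb a = true)
    (ha1 : Bb a 1 = false) (hb : b < 64) (hbq : qb b = true) (hb1 : Bb b 1 = false)
    (hfix : tp a b k = k) (hv : v < 64)
    (hstep : ∀ e ∈ [(0 : ℕ), 1], ∃ n < 64, un k n ^^^ (e ^^^ tp a b v) ^^^ n = v')
    (hi : InvAt Q co r v) : InvAt Q co r v' := by
  obtain ⟨c, hc, hcs, hact⟩ := H.exists_stab hs hs1 ha haq ha1 hb hbq hb1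
  obtain ⟨g, hg, I⟩ := H.exists_act hc
  have e : ∀ v, v < 64 → g v = tp a b v := H.acts_unique hg hact
  have h1 : g 1 = 1 := by
    rw [e 1 (by norm_num)]
    simp only [tp, tv, Bb_comm 1 b, hb1, Bool.false_eq_true, if_false, Bb_comm 1 a, ha1]
  have hlab : Acts Q co (c * r * c⁻¹) (un k) := by
    have := H.label_conj hk.1 (mem_Rs.mp hr).2 hc hg I h1 h
    rwa [e k hk.1, hfix] at this
  obtain ⟨d, hd, hdr⟩ := H.same_label hs hs1 hr (H.conj_Rs hc hcs hr) h hlab
  obtain ⟨hdQ, hdco, -⟩ := H.co_s_cases hs hs1 hd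
  obtain ⟨q, hq, rfl⟩ := H.surj v hv
  have hq' : d * (c * q * c⁻¹) ∈ Q := mul_mem hdQ (H.nor c hc.eq q hq)
  have key : InvAt Q co r (co d ^^^ tp a b (co q)) := by
    have := H.invAt_of (mem_Rs.mp hr).2 hq' (by
      rw [show r * (d * (c * q * c⁻¹)) = c * r * c⁻¹ * (c * q * c⁻¹) by rw [hdr]; group,
        show c * r * c⁻¹ * (c * q * c⁻¹) * (c * r * c⁻¹ * (c * q * c⁻¹))
          = c * (r * q * (r * q)) * c⁻¹ by group, hi q hq rfl, mul_one, mul_inv_cancel])
    rwa [H.mul _ hdQ _ (H.nor c hc.eq q hq), hg q hq, e _ (H.lt q)] at this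
  obtain ⟨n, hn, hn'⟩ := hstep (co d) (by rcases hdco with h | h <;> simp [h])
  rw [← hn']
  refine H.invAt_shift hs hs1 hr h (xlt (H.lt d) ?_) hn key
  rw [← e _ (H.lt q)]; exact I.lt _ (H.lt q)

theorem co_rr (H : Data z Q co) (hs : s ∈ Q) (hs1 : co s = 1) {r q : G} {k : ℕ}
    (hr : r ∈ Rs z Q s) (h : Acts Q co r (un k)) (hq : q ∈ Q) (hinv : r * q * (r * q) = 1) :
    co (r * r) ^^^ un k (co q) ^^^ co q = 0 := by
  have hrr : r * r ∈ Q := by
    rcases H.rr_cases hs hs1 hr with e | e <;> rw [e]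
    exacts [one_mem Q, hs]
  have hm : r⁻¹ * q * r ∈ Q := by simpa using H.nor r⁻¹ (mem_Rs.mp hr).2.inv_left.eq q hq
  have e : co (r * q * (r * q)) = co (r * r) ^^^ co (r⁻¹ * q * r) ^^^ co q := by
    rw [show r * q * (r * q) = r * r * (r⁻¹ * q * r) * q by group, H.mul _ (mul_mem hrr hm) _ hq,
      H.mul _ hrr _ hm]
  rw [hinv, H.co_one, show co (r⁻¹ * q * r) = un k (co q) by
    simpa using H.acts_inv hs hs1 hr h q hq] at e
  exact e.symm

/-- Involutions acting as `un 2` are conjugate to `z`. -/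
theorem case_two (H : Data z Q co) (hs : s ∈ Q) (hs1 : co s = 1) {r q : G} (hr : r ∈ Rs z Q s)
    (h : Acts Q co r (un 2)) (hq : q ∈ Q) (hinv : r * q * (r * q) = 1) :
    LXFam.Sing z (r * q) := by
  have W2 := w_in.1
  have hr2 : r * r = 1 := (H.sq_label hs hs1 W2 (by norm_num) hr h).mpr (by decide)
  have hv := H.co_rr hs hs1 hr h hq hinv
  rw [hr2, H.co_one, Nat.zero_xor] at hv
  obtain ⟨n, hn, hnm⟩ := shift_two _ (H.lt q) hv
  obtain ⟨x, hx, rfl⟩ := H.surj n hn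
  obtain ⟨q', hq', e, e'⟩ := H.shift hs hs1 hr h hq hx
  have hinv' : r * q' * (r * q') = 1 := by
    rw [← e', show x * (r * q) * x⁻¹ * (x * (r * q) * x⁻¹) = x * (r * q * (r * q)) * x⁻¹ by group,
      hinv, mul_one, mul_inv_cancel]
  have hi' := H.invAt_of (mem_Rs.mp hr).2 hq' hinv'
  rw [e] at hi'
  -- none of the cosets `16`, `32`, `48` gives involutions
  have hcyc : ∀ p ∈ [((16 : ℕ), (32 : ℕ)), (32, 48), (48, 16)], InvAt Q co r p.1 →
      InvAt Q co r p.2 := fun p hp hi =>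
    H.invAt_cycle hs hs1 W2 hr h (a := 16) (b := 32) (by norm_num) (by decide) (by decide)
      (by norm_num) (by decide) (by decide) (by decide)
      (by simp only [List.mem_cons, List.not_mem_nil, or_false] at hp; rcases hp with rfl | rfl | rfl <;> norm_num)
      (step_two p hp) hi
  have hno : ¬ InvAt Q co r 16 := by
    intro h16
    have h32 := hcyc (16, 32) (by simp) h16
    have h48 := hcyc (32, 48) (by simp) h32
    obtain ⟨x₁, hx₁, e₁⟩ := H.surj 16 (by norm_num)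
    obtain ⟨x₂, hx₂, e₂⟩ := H.surj 32 (by norm_num)
    have k1 := h16 x₁ hx₁ e₁
    have k2 := h32 x₂ hx₂ e₂
    have k3 := h48 (x₁ * x₂) (mul_mem hx₁ hx₂) (by rw [H.mul _ hx₁ _ hx₂, e₁, e₂]; rfl)
    have ri : r⁻¹ = r := inv_eq_of_mul_eq_one_right hr2
    have f : ∀ y, r * y * (r * y) = 1 → r * y * r = y⁻¹ := fun y hy =>
      eq_inv_of_mul_eq_one_left (by rw [← hy]; group)
    have hcom : Commute x₁ x₂ := by
      have e3 := f _ k3
      rw [show r * (x₁ * x₂) * r = r * x₁ * r * (r⁻¹ * (x₂ * r)) by group, ri, ← mul_assoc r x₂ r,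
        f _ k1, f _ k2, mul_inv_rev] at e3
      have := congrArg (·⁻¹) e3
      simp only [mul_inv_rev, inv_inv] at this
      exact this.symm
    rw [H.commute_iff hx₁ hx₂, e₁, e₂] at hcom
    exact absurd hcom (by decide)
  simp only [List.mem_cons, List.not_mem_nil, or_false] at hnm
  rcases hnm with h0 | h0 | h0 | h0
  · have hs' : LXFam.Sing z (r * q') := by
      have hzS := H.z_mem_Qs hs hs1
      have hq'' := H.ker q' hq' (by rw [e]; exact h0)
      have hmem : r * q' ∈ lxQ Q z s := by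
        rcases hq'' with e2 | e2 <;> rw [e2]
        · rw [mul_one]; exact (mem_Rs.mp hr).1
        · exact mul_mem (mem_Rs.mp hr).1 hzS
      obtain ⟨g, hg⟩ := H.sing_one hs hs1
      rw [← hg] at hmem
      have hm := H.fam.mem_Q_conj' g hmem
      rw [H.lxQ_z] at hm
      have hsq : g⁻¹ * (r * q') * g * (g⁻¹ * (r * q') * g) = 1 := by
        rw [show g⁻¹ * (r * q') * g * (g⁻¹ * (r * q') * g)
          = g⁻¹ * (r * q' * (r * q')) * g by group, hinv', mul_one, inv_mul_cancel]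
      have hne : co (g⁻¹ * (r * q') * g) ≠ 0 := by
        intro h00
        rcases H.ker _ hm h00 with e2 | e2
        · have h1 : r * q' = 1 := by
            rw [show r * q' = g * (g⁻¹ * (r * q') * g) * g⁻¹ by group, e2]; group
          have hrQ : r ∈ Q := by rw [eq_inv_of_mul_eq_one_left h1]; exact inv_mem hq'
          have := H.acts_unique h (H.acts_mem hrQ) 4 (by norm_num)
          revert this; decide
        · have h1 : r * q' = s := by
            rw [show r * q' = g * (g⁻¹ * (r * q') * g) * g⁻¹ by group, e2, hg]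
          have hrQ : r ∈ Q := by
            rw [eq_mul_inv_of_mul_eq h1]; exact mul_mem hs (inv_mem hq')
          have := H.acts_unique h (H.acts_mem hrQ) 4 (by norm_num)
          revert this; decide
      obtain ⟨f, hf⟩ := H.sing_z hm ((H.sq_one hm).mp hsq) hne
      exact ⟨g * f, by rw [show g * f * z * (g * f)⁻¹ = g * (f * z * f⁻¹) * g⁻¹ by group, hf]; group⟩
    obtain ⟨f, hf⟩ := hs'
    exact ⟨x⁻¹ * f, by
      rw [show x⁻¹ * f * z * (x⁻¹ * f)⁻¹ = x⁻¹ * (f * z * f⁻¹) * x by group, hf, ← e']; group⟩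
  · rw [h0] at hi'; exact absurd hi' hno
  · rw [h0] at hi'
    exact absurd (hcyc (48, 16) (by simp) (hcyc (32, 48) (by simp) hi')) hno
  · rw [h0] at hi'
    exact absurd (hcyc (48, 16) (by simp) hi') hno

theorem cycle_sixteen (H : Data z Q co) (hs : s ∈ Q) (hs1 : co s = 1) {r : G}
    (hr : r ∈ Rs z Q s) (h : Acts Q co r (un 16)) : ∀ p ∈ [((32 : ℕ), (34 : ℕ)), (34, 40), (40, 32)],
    InvAt Q co r p.1 → InvAt Q co r p.2 := fun p hp hi =>
  H.invAt_cycle hs hs1 w_in.2.2.2.2.2.2.1 hr h (a := 18) (b := 10) (by norm_num) (by decide)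
    (by decide) (by norm_num) (by decide) (by decide) (by decide)
    (by simp only [List.mem_cons, List.not_mem_nil, or_false] at hp; rcases hp with rfl | rfl | rfl <;> norm_num)
    (step_sixteen p hp) hi

/-- The two cosets `32` and `42` behave oppositely. -/
theorem sixteen_dichotomy (H : Data z Q co) (hs : s ∈ Q) (hs1 : co s = 1) {r : G}
    (hr : r ∈ Rs z Q s) (h : Acts Q co r (un 16)) :
    (InvAt Q co r 32 ↔ ¬ InvAt Q co r 42) := by
  have hr2 : r * r = s := (H.rr_cases hs hs1 hr).resolve_left fun e => by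
    have := (H.sq_label hs hs1 w_in.2.2.2.2.2.2.1 (by norm_num) hr h).mp e
    revert this; decide
  have hrz := (mem_Rs.mp hr).2
  have hss := H.s_sq hs hs1
  have hrs : Commute r s := H.comm_s (mem_Rs.mp hr).1
  obtain ⟨x₁, hx₁, e₁⟩ := H.surj 32 (by norm_num)
  obtain ⟨x₂, hx₂, e₂⟩ := H.surj 34 (by norm_num)
  obtain ⟨x₃, hx₃, e₃⟩ := H.surj 40 (by norm_num)
  have hy : x₁ * x₂ * x₃ ∈ Q := mul_mem (mul_mem hx₁ hx₂) hx₃
  have ey : co (x₁ * x₂ * x₃) = 42 := by
    rw [H.mul _ (mul_mem hx₁ hx₂) _ hx₃, H.mul _ hx₁ _ hx₂, e₁, e₂, e₃]; rfl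
  -- `r x r⁻¹ = x s` or `x s z`
  have hφ : ∀ x ∈ Q, qb (co x) = true → un 16 (co x) = co x ^^^ 1 → Commute x s →
      (InvAt Q co r (co x) → r * x * r⁻¹ = x * s * z) ∧
      (¬ InvAt Q co r (co x) → r * x * r⁻¹ = x * s) := by
    intro x hx hxq hxN hxs
    have hm := H.nor r hrz.eq x hx
    have hc : co (r * x * r⁻¹) = co (x * s) := by rw [h x hx, hxN, H.mul _ hx _ hs, hs1]
    have hiff : r * x * (r * x) = 1 ↔ r * x * r⁻¹ = x * s * z := by
      have : r * x * (r * x) = r * x * r⁻¹ * s * x := by rw [← hr2]; group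
      rw [this]
      constructor
      · intro h1
        have h2 := eq_inv_of_mul_eq_one_left h1
        rw [H.inv_of_q hx hxq] at h2
        rw [eq_mul_inv_of_mul_eq h2, inv_eq_of_mul_eq_one_right hss, mul_assoc x z s,
          ← (H.comm_z hs).eq, ← mul_assoc]
      · intro h1
        rw [h1]
        calc x * s * z * s * x = x * s * (z * s) * x := by group
          _ = x * (s * s) * (z * x) := by rw [← (H.comm_z hs).eq]; group
          _ = x * x * z := by rw [hss, mul_one, ← (H.comm_z hx).eq, mul_assoc]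
          _ = 1 := by rw [H.sq_z hx hxq, H.zz]
    refine ⟨fun hi => hiff.mp (hi x hx rfl), fun hi => ?_⟩
    rcases H.co_eq (mul_mem hx hs) hm hc.symm with e | e
    · exact e
    · exact absurd (H.invAt_of hrz hx (hiff.mpr e)) hi
  have cs : ∀ x ∈ Q, Bb (co x) 1 = false → Commute x s := fun x hx hB =>
    (H.commute_iff hx hs).mpr (by rw [hs1]; exact hB)
  have c1 := cs x₁ hx₁ (by rw [e₁]; decide)
  have c2 := cs x₂ hx₂ (by rw [e₂]; decide)
  have c3 := cs x₃ hx₃ (by rw [e₃]; decide)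
  have p1 := hφ x₁ hx₁ (by rw [e₁]; decide) (by rw [e₁]; decide) c1
  have p2 := hφ x₂ hx₂ (by rw [e₂]; decide) (by rw [e₂]; decide) c2
  have p3 := hφ x₃ hx₃ (by rw [e₃]; decide) (by rw [e₃]; decide) c3
  rw [e₁] at p1; rw [e₂] at p2; rw [e₃] at p3
  have cyc := H.cycle_sixteen hs hs1 hr h
  have hys : Commute (x₁ * x₂ * x₃) s := (c1.mul_left c2).mul_left c3
  have hyy : (x₁ * x₂ * x₃) * (x₁ * x₂ * x₃) = 1 := (H.sq_one hy).mpr (by rw [ey]; decide)
  have hry : r * (x₁ * x₂ * x₃) * r⁻¹ = r * x₁ * r⁻¹ * (r * x₂ * r⁻¹) * (r * x₃ * r⁻¹) := by group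
  have hiffy : InvAt Q co r 42 ↔ r * (x₁ * x₂ * x₃) * r⁻¹ = x₁ * x₂ * x₃ * s := by
    have e : r * (x₁ * x₂ * x₃) * (r * (x₁ * x₂ * x₃))
        = r * (x₁ * x₂ * x₃) * r⁻¹ * (s * (x₁ * x₂ * x₃)) := by rw [← hr2]; group
    constructor
    · intro hi
      have h1 := hi _ hy ey
      rw [e] at h1
      rw [eq_inv_of_mul_eq_one_left h1, mul_inv_rev, inv_eq_of_mul_eq_one_right hss,
        inv_eq_of_mul_eq_one_right hyy]
    · intro h1
      rw [← ey]
      refine H.invAt_of hrz hy ?_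
      rw [e, h1, mul_assoc, ← mul_assoc s, hss, one_mul, hyy]
  constructor
  · intro hi h42
    have hi2 := cyc (32, 34) (by simp) hi
    have hi3 := cyc (34, 40) (by simp) hi2
    have e := hiffy.mp h42
    rw [hry, p1.1 hi, p2.1 hi2, p3.1 hi3] at e
    have : x₁ * s * z * (x₂ * s * z) * (x₃ * s * z) = x₁ * x₂ * x₃ * s * z := by
      calc x₁ * s * z * (x₂ * s * z) * (x₃ * s * z)
          = x₁ * s * ((z * x₂) * s * ((z * x₃) * s * z)) := by group
        _ = x₁ * (s * x₂) * z * (s * x₃) * (z * s) * z := by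
            rw [← (H.comm_z hx₂).eq, ← (H.comm_z hx₃).eq]; group
        _ = x₁ * x₂ * (s * z) * x₃ * s * (s * z) * z := by
            rw [← c2.eq, ← c3.eq, ← (H.comm_z hs).eq]; group
        _ = x₁ * x₂ * (s * z * x₃) * (s * s) * (z * z) := by group
        _ = x₁ * x₂ * (x₃ * (s * z)) * 1 * 1 := by
            rw [hss, H.zz, show s * z * x₃ = x₃ * (s * z) from
              ((c3.symm).mul_left (H.comm_z hx₃).symm).eq]
        _ = x₁ * x₂ * x₃ * s * z := by group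
    rw [this] at e
    exact H.z_ne (mul_eq_left.mp e)
  · intro h42
    by_contra hi
    have hi3 : ¬ InvAt Q co r 40 := fun h' => hi (cyc (40, 32) (by simp) h')
    have hi2 : ¬ InvAt Q co r 34 := fun h' => hi3 (cyc (34, 40) (by simp) h')
    refine h42 (hiffy.mpr ?_)
    rw [hry, p1.2 hi, p2.2 hi2, p3.2 hi3]
    calc x₁ * s * (x₂ * s) * (x₃ * s) = x₁ * (s * x₂) * (s * x₃) * s := by group
      _ = x₁ * x₂ * s * (s * x₃) * s := by rw [← c2.eq]; group
      _ = x₁ * x₂ * (s * s) * x₃ * s := by group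
      _ = x₁ * x₂ * x₃ * s := by rw [hss, mul_one]

/-- An element of coordinates `17` commuting with `r` that inverts the centre bit of `q`. -/
theorem exists_flip (H : Data z Q co) (hs : s ∈ Q) (hs1 : co s = 1) {r q : G}
    (hr : r ∈ Rs z Q s) (h : Acts Q co r (un 16)) (hq : q ∈ Q) (hinv : r * q * (r * q) = 1)
    (hB : Bb 17 (co q) = true) (hqs : Bb (co q) 1 = false) :
    ∃ p ∈ Q, co p = 17 ∧ Commute p r ∧ p * q * p⁻¹ = q * z := by
  have hr2 : r * r = s := (H.rr_cases hs hs1 hr).resolve_left fun e => by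
    have := (H.sq_label hs hs1 w_in.2.2.2.2.2.2.1 (by norm_num) hr h).mp e
    revert this; decide
  have hrz := (mem_Rs.mp hr).2
  have hss := H.s_sq hs hs1
  obtain ⟨p, hp, hp17⟩ := H.surj 17 (by norm_num)
  have hflip : p * q * p⁻¹ = q * z := H.flip hp hq (by rw [hp17]; exact hB)
  have hi := H.invAt_shift hs hs1 hr h (H.lt q) (n := 4) (by norm_num) (H.invAt_of hrz hq hinv)
  have e17 : un 16 4 ^^^ co q ^^^ 4 = co (q * p) := by
    rw [H.mul q hq p hp, hp17, Nat.xor_comm (un 16 4), Nat.xor_assoc]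
    rfl
  rw [e17] at hi
  have hi' := hi (q * p) (mul_mem hq hp) rfl
  have e : ∀ y, r * y * (r * y) = 1 → r * y * r⁻¹ = y⁻¹ * s := fun y hy => by
    have : r * y * r⁻¹ = r * y * (r * y) * y⁻¹ * (r * r)⁻¹ := by group
    rw [this, hy, hr2, one_mul, inv_eq_of_mul_eq_one_right hss]
  have hqs' : Commute q s := (H.commute_iff hq hs).mpr (by rw [hs1]; exact hqs)
  have hps : Commute p s := (H.commute_iff hp hs).mpr (by rw [hp17, hs1]; decide)
  refine ⟨p, hp, hp17, Commute.symm (mul_inv_eq_iff_eq_mul.mp ?_), hflip⟩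
  calc r * p * r⁻¹ = (r * q * r⁻¹)⁻¹ * (r * (q * p) * r⁻¹) := by group
    _ = (q⁻¹ * s)⁻¹ * ((q * p)⁻¹ * s) := by rw [e q hinv, e _ hi']
    _ = s⁻¹ * (q * p⁻¹ * q⁻¹) * s := by group
    _ = q * p⁻¹ * q⁻¹ := by
        rw [((hqs'.mul_left hps.inv_left).mul_left hqs'.inv_left).symm.inv_left.eq,
          inv_mul_cancel_right]
    _ = p⁻¹ * z := H.flip hq (inv_mem hp) (by rw [H.co_inv hp, hp17, Bb_comm]; exact hB)
    _ = p := by rw [H.inv_of_q hp (by rw [hp17]; decide), H.mul_z_mul_z]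

/-- The representative of the second class, and the classification. -/
theorem exists_second (H : Data z Q co) (hs : s ∈ Q) (hs1 : co s = 1) :
    ∃ r q, r ∈ Rs z Q s ∧ Acts Q co r (un 16) ∧ q ∈ Q ∧ (co q = 32 ∨ co q = 42) ∧
      r * q * (r * q) = 1 ∧
      ∀ t : G, t * t = 1 → t ≠ 1 → Commute t z → IsConj t z ∨ IsConj t (r * q) := by
  obtain ⟨r₂, hr₂, hA₂⟩ := H.exists_of_label hs hs1 w_in.1
  obtain ⟨r, hr, hA⟩ := H.exists_of_label hs hs1 w_in.2.2.2.2.2.2.1
  obtain ⟨q, hq, hqv, hinv⟩ : ∃ q ∈ Q, (co q = 32 ∨ co q = 42) ∧ r * q * (r * q) = 1 := by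
    by_cases h32 : InvAt Q co r 32
    · obtain ⟨q, hq, e⟩ := H.surj 32 (by norm_num)
      exact ⟨q, hq, Or.inl e, h32 q hq e⟩
    · obtain ⟨q, hq, e⟩ := H.surj 42 (by norm_num)
      exact ⟨q, hq, Or.inr e, (by by_contra hn; exact h32 ((H.sixteen_dichotomy hs hs1 hr hA).mpr
        fun h => hn (h q hq e)))⟩
  refine ⟨r, q, hr, hA, hq, hqv, hinv, fun t ht ht1 htz => ?_⟩
  by_cases htQ : t ∈ Q
  · left
    by_cases h0 : co t = 0
    · rcases H.ker t htQ h0 with e | e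
      · exact absurd e ht1
      · rw [e]
    · obtain ⟨g, hg⟩ := H.sing_z htQ ((H.sq_one htQ).mp ht) h0
      exact (isConj_iff.mpr ⟨g, hg⟩).symm
  obtain ⟨c, hc, hk⟩ := H.normal_form hs hs1 ht htz htQ
  have hct : IsConj t (c * t * c⁻¹) := isConj_iff.mpr ⟨c, rfl⟩
  have hsq : c * t * c⁻¹ * (c * t * c⁻¹) = 1 := by
    rw [show c * t * c⁻¹ * (c * t * c⁻¹) = c * (t * t) * c⁻¹ by group, ht, mul_one, mul_inv_cancel]
  have hcz : Commute (c * t * c⁻¹) z := (hc.mul_left htz).mul_left hc.inv_left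
  rcases hk with hk | hk
  · left
    have hq' := H.mem_of_acts_eq (mem_Rs.mp hr₂).2 hcz hA₂ hk
    obtain ⟨g, hg⟩ := H.case_two hs hs1 hr₂ hA₂ hq'
      (by rw [mul_inv_cancel_left]; exact hsq)
    rw [mul_inv_cancel_left] at hg
    exact hct.trans (isConj_iff.mpr ⟨g, hg⟩).symm
  · right
    refine hct.trans ?_
    set t' := c * t * c⁻¹ with ht'
    have hq' := H.mem_of_acts_eq (mem_Rs.mp hr).2 hcz hA hk
    have et : t' = r * (r⁻¹ * t') := by group
    generalize r⁻¹ * t' = q₀ at et hq'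
    clear ht'
    clear_value t'
    subst et
    have hr2 : r * r = s := (H.rr_cases hs hs1 hr).resolve_left fun e => by
      have := (H.sq_label hs hs1 w_in.2.2.2.2.2.2.1 (by norm_num) hr hA).mp e
      revert this; decide
    have hv := H.co_rr hs hs1 hr hA hq' hsq
    rw [hr2, hs1, Nat.xor_assoc] at hv
    have hv' := (xor_eq_zero hv).symm
    obtain ⟨n, hn, hnm⟩ := shift_sixteen _ (H.lt q₀) hv'
    obtain ⟨x, hx, rfl⟩ := H.surj n hn
    obtain ⟨q₁, hq₁, e, e'⟩ := H.shift hs hs1 hr hA hq' hx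
    rw [← e] at hnm
    have hinv₁ : r * q₁ * (r * q₁) = 1 := by
      rw [← e', show x * (r * q₀) * x⁻¹ * (x * (r * q₀) * x⁻¹)
        = x * (r * q₀ * (r * q₀)) * x⁻¹ by group, hsq, mul_one, mul_inv_cancel]
    refine (isConj_iff.mpr ⟨x, e'⟩).trans ?_
    -- move to the coset of `q`
    have cyc := H.cycle_sixteen hs hs1 hr hA
    have dich := H.sixteen_dichotomy hs hs1 hr hA
    have hi₁ := H.invAt_of (mem_Rs.mp hr).2 hq₁ hinv₁
    have hiq := H.invAt_of (mem_Rs.mp hr).2 hq hinv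
    simp only [List.mem_cons, List.not_mem_nil, or_false] at hnm
    obtain ⟨q₂, hq₂, e₂, hc₂, hinv₂⟩ : ∃ q₂ ∈ Q, co q₂ = co q ∧ IsConj (r * q₁) (r * q₂) ∧
        r * q₂ * (r * q₂) = 1 := by
      obtain ⟨d, hd, hds, hact⟩ := H.exists_stab hs hs1 (a := 18) (b := 10) (by norm_num)
        (by decide) (by decide) (by norm_num) (by decide) (by decide)
      obtain ⟨g, hg, I⟩ := H.exists_act hd
      have eg : ∀ v, v < 64 → g v = tp 18 10 v := H.acts_unique hg hact
      have h1 : g 1 = 1 := by rw [eg 1 (by norm_num)]; decide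
      have hlab : Acts Q co (d * r * d⁻¹) (un 16) := by
        have := H.label_conj (by norm_num) (mem_Rs.mp hr).2 hd hg I h1 hA
        rwa [eg 16 (by norm_num), show tp 18 10 16 = 16 by decide] at this
      obtain ⟨f, hf, hdr⟩ := H.same_label hs hs1 hr (H.conj_Rs hd hds hr) hA hlab
      obtain ⟨hfQ, hfco, -⟩ := H.co_s_cases hs hs1 hf
      -- one step of the cycle
      have step : ∀ p ∈ [((32 : ℕ), (34 : ℕ)), (34, 40), (40, 32)], ∀ y ∈ Q, co y = p.1 →
          ∃ y' ∈ Q, co y' = p.2 ∧ IsConj (r * y) (r * y') := by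
        intro p hp y hy hyv
        have hy' : f * (d * y * d⁻¹) ∈ Q := mul_mem hfQ (H.nor d hd.eq y hy)
        obtain ⟨m, hm, hm'⟩ := step_sixteen p hp (co f) (by rcases hfco with h | h <;> simp [h])
        obtain ⟨u, hu, rfl⟩ := H.surj m hm
        obtain ⟨y', hy'Q, ey', ey''⟩ := H.shift hs hs1 hr hA hy' hu
        refine ⟨y', hy'Q, ?_, ?_⟩
        · rw [ey', H.mul _ hfQ _ (H.nor d hd.eq y hy), hg y hy, eg _ (H.lt y), hyv, hm']
        · refine isConj_iff.mpr ⟨u * d, ?_⟩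
          rw [← ey'', show r * (f * (d * y * d⁻¹)) = d * r * d⁻¹ * (d * y * d⁻¹) by
            rw [hdr]; group]
          group
      rcases hnm with h0 | h0 | h0 | h0
      · rw [h0] at hi₁
        rcases hqv with hv | hv
        · exact ⟨q₁, hq₁, by rw [h0, hv], IsConj.refl _, hinv₁⟩
        · rw [hv] at hiq; exact absurd hiq (dich.mp hi₁)
      · rw [h0] at hi₁
        have h32 := cyc (40, 32) (by simp) (cyc (34, 40) (by simp) hi₁)
        rcases hqv with hv | hv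
        · obtain ⟨y, hy, ey, cy⟩ := step (34, 40) (by simp) q₁ hq₁ h0
          obtain ⟨y', hy', ey', cy'⟩ := step (40, 32) (by simp) y hy ey
          exact ⟨y', hy', by rw [ey', hv], cy.trans cy', h32 y' hy' ey'⟩
        · rw [hv] at hiq; exact absurd hiq (dich.mp h32)
      · rw [h0] at hi₁
        have h32 := cyc (40, 32) (by simp) hi₁
        rcases hqv with hv | hv
        · obtain ⟨y, hy, ey, cy⟩ := step (40, 32) (by simp) q₁ hq₁ h0
          exact ⟨y, hy, by rw [ey, hv], cy, h32 y hy ey⟩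
        · rw [hv] at hiq; exact absurd hiq (dich.mp h32)
      · rw [h0] at hi₁
        rcases hqv with hv | hv
        · rw [hv] at hiq; exact absurd hi₁ (dich.mp hiq)
        · exact ⟨q₁, hq₁, by rw [h0, hv], IsConj.refl _, hinv₁⟩
    refine hc₂.trans ?_
    rcases H.co_eq hq hq₂ e₂.symm with rfl | rfl
    · exact IsConj.refl _
    · obtain ⟨p, hp, -, hpr, hpq⟩ := H.exists_flip hs hs1 hr hA hq hinv
        (by rcases hqv with hv | hv <;> rw [hv] <;> decide)
        (by rcases hqv with hv | hv <;> rw [hv] <;> decide)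
      refine (isConj_iff.mpr ⟨p, ?_⟩).symm
      calc p * (r * q) * p⁻¹ = (p * r * p⁻¹) * (p * q * p⁻¹) := by group
        _ = r * (q * z) := by rw [hpq, hpr.eq, mul_inv_cancel_right]

end Data

end H73.Suz
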