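import Cfsg.Agent.H73.Suz.Classes

/-!
Groups with an involution whose centraliser is `2^(1+6).Ω⁻₆(2)`, part 3: the second class of
involutions is not fused to the class of `z`.
-/

set_option autoImplicit false
set_option linter.unusedSectionVars false

namespace H73.Suz

open H69 (lxQ LXFam)

/-- Fixed vectors of `un 2`. -/
def fixTwo : List ℕ := [0, 1, 2, 3, 16, 17, 18, 19, 32, 33, 34, 35, 48, 49, 50, 51]

/-- Fixed vectors of `un 16`. -/
def fixSixteen : List ℕ := [0, 1, 2, 3, 8, 9, 10, 11, 16, 17, 18, 19, 24, 25, 26, 27]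

theorem fix_two : fixTwo.Nodup ∧ fixTwo.length = 16 ∧
    ∀ v ∈ fixTwo, v < 64 ∧ un 2 v = v := by decide +kernel

theorem fix_sixteen : fixSixteen.Nodup ∧ fixSixteen.length = 16 ∧
    ∀ v ∈ fixSixteen, v < 64 ∧ un 16 v = v := by decide +kernel

/-- Possible images of `16`, `32`, `4` under an isometry fixing `1`, `y₂`, `y₈`. -/
def cand (y₂ y₈ : ℕ) : List (ℕ × ℕ × ℕ) :=
  [16, 17].flatMap fun a =>
    ((List.range 64).filter fun b => (qb b && !(Bb b 1)) && ((Bb b a == Bb 32 16) &&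
      ((Bb b y₂ == Bb 32 y₂) && (Bb b y₈ == Bb 32 y₈)))).flatMap fun b =>
    ((List.range 64).filter fun c => (!(qb c) && Bb c 1) && ((Bb c a == Bb 4 16) &&
      ((Bb c b == Bb 4 32) && ((Bb c y₂ == Bb 4 y₂) && (Bb c y₈ == Bb 4 y₈))))).map fun c => (a, b, c)

theorem cand_le : ∀ y₂ ∈ [(2 : ℕ), 18], ∀ y₈ ∈ [(8 : ℕ), 24], (cand y₂ y₈).length ≤ 8 := by
  decide +kernel

theorem radical_sixteen : ∀ u < 64, un 16 u = u → ∀ y₂ ∈ [(2 : ℕ), 18], ∀ y₈ ∈ [(8 : ℕ), 24],
    Bb u y₂ = false → Bb u y₈ = false → u ∈ [(0 : ℕ), 1, 16, 17] := by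
  decide +kernel

theorem im_sixteen : ∀ v < 64, un 16 v ^^^ v ∈ [(0 : ℕ), 1, 16, 17] := by decide +kernel

theorem basis_six : ∀ v < 64, ∀ y₂ ∈ [(2 : ℕ), 18], ∀ y₈ ∈ [(8 : ℕ), 24],
    ((((((if v.testBit 0 then 1 else 0) ^^^ (if v.testBit 1 then y₂ else 0)) ^^^
      (if v.testBit 2 then 4 else 0)) ^^^ (if v.testBit 3 then y₈ else 0)) ^^^
      (if (v.testBit 4 ^^ ((v.testBit 1 && y₂.testBit 4) ^^ (v.testBit 3 && y₈.testBit 4)))
        then 16 else 0)) ^^^ (if v.testBit 5 then 32 else 0)) = v := by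
  decide +kernel

namespace IsIso

theorem map_ite {g : ℕ → ℕ} (I : IsIso g) (b : Bool) (a : ℕ) :
    g (if b then a else 0) = if b then g a else 0 := by
  cases b <;> simp [I.zero]

theorem ite_lt {a : ℕ} (b : Bool) (ha : a < 64) : (if b then a else 0) < 64 := by
  cases b <;> simp [ha]

/-- Isometries agreeing on a basis are equal. -/
theorem ext_six {g h : ℕ → ℕ} (I : IsIso g) (J : IsIso h) {y₂ y₈ : ℕ} (hy₂ : y₂ ∈ [(2 : ℕ), 18])
    (hy₈ : y₈ ∈ [(8 : ℕ), 24]) (e1 : g 1 = h 1) (e2 : g y₂ = h y₂) (e4 : g 4 = h 4)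
    (e8 : g y₈ = h y₈) (e16 : g 16 = h 16) (e32 : g 32 = h 32) :
    ∀ v, v < 64 → g v = h v := by
  intro v hv
  have l2 : y₂ < 64 := by
    simp only [List.mem_cons, List.not_mem_nil, or_false] at hy₂
    rcases hy₂ with rfl | rfl <;> norm_num
  have l8 : y₈ < 64 := by
    simp only [List.mem_cons, List.not_mem_nil, or_false] at hy₈
    rcases hy₈ with rfl | rfl <;> norm_num
  set bb := (v.testBit 4 ^^ ((v.testBit 1 && y₂.testBit 4) ^^ (v.testBit 3 && y₈.testBit 4)))
  have hv' := (basis_six v hv y₂ hy₂ y₈ hy₈).symm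
  have k1 := ite_lt (v.testBit 0) (show (1 : ℕ) < 64 by norm_num)
  have k2 := xlt k1 (ite_lt (v.testBit 1) l2)
  have k3 := xlt k2 (ite_lt (v.testBit 2) (show (4 : ℕ) < 64 by norm_num))
  have k4 := xlt k3 (ite_lt (v.testBit 3) l8)
  have k5 := xlt k4 (ite_lt bb (show (16 : ℕ) < 64 by norm_num))
  have m2 := ite_lt (v.testBit 1) l2
  have m3 := ite_lt (v.testBit 2) (show (4 : ℕ) < 64 by norm_num)
  have m4 := ite_lt (v.testBit 3) l8
  have m5 := ite_lt bb (show (16 : ℕ) < 64 by norm_num)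
  have m6 := ite_lt (v.testBit 5) (show (32 : ℕ) < 64 by norm_num)
  rw [hv', I.add _ k5 _ m6, I.add _ k4 _ m5, I.add _ k3 _ m4, I.add _ k2 _ m3, I.add _ k1 _ m2,
    J.add _ k5 _ m6, J.add _ k4 _ m5, J.add _ k3 _ m4, J.add _ k2 _ m3, J.add _ k1 _ m2]
  simp only [I.map_ite, J.map_ite, e1, e2, e4, e8, e16, e32]

end IsIso

namespace Data

variable {G : Type*} [Group G] [Finite G] {z : G} {Q : Subgroup G} {co : G → ℕ} {s : G}

/-- An element fixing sixteen cosets of `⟨z⟩` centralises sixteen elements of `Q`. -/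
theorem count_of_fix (H : Data z Q co) {c : G} (hc : Commute c z) (l : List ℕ) (hnd : l.Nodup)
    (hlen : l.length = 16) (hfix : ∀ v ∈ l, v < 64 ∧ ∀ q ∈ Q, co q = v → co (c * q * c⁻¹) = v) :
    16 ≤ Nat.card {x : G // x ∈ Q ∧ Commute x c} := by
  classical
  choose x hxQ hx using H.surj
  let xi : Fin l.length → G := fun i => x (l.get i) (hfix _ (l.get_mem i)).1
  have hxi : ∀ i, xi i ∈ Q ∧ co (xi i) = l.get i := fun i => ⟨hxQ _ _, hx _ _⟩
  let F : Fin l.length × Bool → G := fun p => xi p.1 * (if p.2 then z else 1)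
  have hF : ∀ p, F p ∈ Q ∧ co (F p) = l.get p.1 ∧
      (c * F p * c⁻¹ = F p ∨ c * F p * c⁻¹ = F p * z) := by
    intro p
    have h1 : F p ∈ Q ∧ co (F p) = l.get p.1 := by
      obtain ⟨i, b⟩ := p
      cases b
      · simpa [F] using hxi i
      · simp only [F, if_true]
        exact ⟨mul_mem (hxi i).1 H.zmem, by rw [H.co_mul_z (hxi i).1, (hxi i).2]⟩
    refine ⟨h1.1, h1.2, H.co_eq h1.1 (H.nor c hc.eq _ h1.1) ?_⟩
    rw [(hfix _ (l.get_mem p.1)).2 _ h1.1 h1.2, h1.2]
  have hFinj : Function.Injective F := by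
    rintro ⟨i, a⟩ ⟨j, b⟩ h
    have hij : i = j := by
      have h2 := congrArg co h
      rw [(hF _).2.1, (hF _).2.1] at h2
      exact List.nodup_iff_injective_get.mp hnd h2
    subst hij
    refine Prod.ext rfl ?_
    have h2 : (if a then z else 1) = (if b then z else (1 : G)) := mul_left_cancel h
    cases a <;> cases b <;> simp [H.z_ne, H.z_ne.symm] at h2 <;> rfl
  by_cases hall : ∀ p, Commute (F p) c
  · have := Nat.card_le_card_of_injective (fun p : Fin l.length × Bool =>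
      (⟨F p, (hF p).1, hall p⟩ : {x : G // x ∈ Q ∧ Commute x c}))
      fun p p' h => hFinj (congrArg Subtype.val h)
    rw [Nat.card_prod, Nat.card_fin, hlen, Nat.card_eq_fintype_card (α := Bool),
      Fintype.card_bool] at this
    omega
  push Not at hall
  obtain ⟨p₀, hp₀⟩ := hall
  have e₀ : c * F p₀ * c⁻¹ = F p₀ * z :=
    (hF p₀).2.2.resolve_left fun h => hp₀ (mul_inv_eq_iff_eq_mul.mp h).symm
  have key : ∀ p, ¬ Commute (F p) c → Commute (F p * F p₀) c := by
    intro p hp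
    have e : c * F p * c⁻¹ = F p * z :=
      (hF p).2.2.resolve_left fun h => hp (mul_inv_eq_iff_eq_mul.mp h).symm
    refine Commute.symm (mul_inv_eq_iff_eq_mul.mp ?_)
    calc c * (F p * F p₀) * c⁻¹ = F p * z * (F p₀ * z) := by rw [← e, ← e₀]; group
      _ = F p * (z * F p₀) * z := by group
      _ = F p * F p₀ := by
          rw [← (H.comm_z (hF p₀).1).eq, ← mul_assoc, H.mul_z_mul_z]
  let f : Fin l.length × Bool → Bool × {x : G // x ∈ Q ∧ Commute x c} := fun p =>
    if h : Commute (F p) c then (true, ⟨F p, (hF p).1, h⟩)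
    else (false, ⟨F p * F p₀, mul_mem (hF p).1 (hF p₀).1, key p h⟩)
  have hf : Function.Injective f := by
    intro p p' h
    simp only [f] at h
    split_ifs at h with h1 h2 h2
    · exact hFinj (congrArg (fun u : Bool × {x : G // x ∈ Q ∧ Commute x c} => (u.2 : G)) h)
    · exact Bool.noConfusion (congrArg Prod.fst h)
    · exact Bool.noConfusion (congrArg Prod.fst h)
    · exact hFinj (mul_right_cancel
        (congrArg (fun u : Bool × {x : G // x ∈ Q ∧ Commute x c} => (u.2 : G)) h))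
  have := Nat.card_le_card_of_injective f hf
  rw [Nat.card_prod, Nat.card_fin, hlen, Nat.card_prod, Nat.card_eq_fintype_card (α := Bool),
    Fintype.card_bool] at this
  omega

/-- Every involution of the centraliser centralises sixteen elements of `Q`. -/
theorem two_count (H : Data z Q co) (hs : s ∈ Q) (hs1 : co s = 1) {c : G} (hc2 : c * c = 1)
    (hc : Commute c z) : 16 ≤ Nat.card {x : G // x ∈ Q ∧ Commute x c} := by
  by_cases hcQ : c ∈ Q
  · exact H.count_of_fix hc (List.range 16) List.nodup_range List.length_range fun v hv =>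
      ⟨by simp at hv; omega, fun q hq e => by rw [H.co_conj_Q hcQ hq, e]⟩
  obtain ⟨d, hd, hk⟩ := H.normal_form hs hs1 hc2 hc hcQ
  have hd' : Commute (d * c * d⁻¹) z := (hd.mul_left hc).mul_left hd.inv_left
  have h16 : 16 ≤ Nat.card {x : G // x ∈ Q ∧ Commute x (d * c * d⁻¹)} := by
    rcases hk with hk | hk
    · exact H.count_of_fix hd' fixTwo fix_two.1 fix_two.2.1 fun v hv =>
        ⟨(fix_two.2.2 v hv).1, fun q hq e => by rw [hk q hq, e, (fix_two.2.2 v hv).2]⟩
    · exact H.count_of_fix hd' fixSixteen fix_sixteen.1 fix_sixteen.2.1 fun v hv =>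
        ⟨(fix_sixteen.2.2 v hv).1, fun q hq e => by rw [hk q hq, e, (fix_sixteen.2.2 v hv).2]⟩
  refine h16.trans (Nat.card_le_card_of_injective (fun x => ⟨d⁻¹ * x.1 * d, ?_, ?_⟩) ?_)
  · simpa using H.nor d⁻¹ hd.inv_left.eq x.1 x.2.1
  · show d⁻¹ * x.1 * d * c = c * (d⁻¹ * x.1 * d)
    calc d⁻¹ * x.1 * d * c = d⁻¹ * (x.1 * (d * c * d⁻¹)) * d := by group
      _ = d⁻¹ * (d * c * d⁻¹ * x.1) * d := by rw [x.2.2.eq]
      _ = c * (d⁻¹ * x.1 * d) := by group
  · intro x y h
    exact Subtype.ext (mul_left_cancel (mul_right_cancel (congrArg Subtype.val h)))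

/-- The second class is not fused to `z`. -/
theorem not_conj_z (H : Data z Q co) (hs : s ∈ Q) (hs1 : co s = 1) {r q : G} (hr : r ∈ Rs z Q s)
    (hA : Acts Q co r (un 16)) (hq : q ∈ Q) (hqv : co q = 32 ∨ co q = 42)
    (hinv : r * q * (r * q) = 1) : ¬ IsConj (r * q) z := by
  intro hconj
  obtain ⟨g, hg⟩ := isConj_iff.mp hconj.symm
  set t := r * q with ht
  have hrz := (mem_Rs.mp hr).2
  have hqs : Commute q s := (H.commute_iff hq hs).mpr (by rcases hqv with h | h <;> rw [hs1, h] <;> decide)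
  have hts : Commute t s := (H.comm_s (mem_Rs.mp hr).1).mul_left hqs
  have htz : Commute t z := hrz.mul_left (H.comm_z hq)
  have hAt : Acts Q co t (un 16) := H.acts_congr (H.acts_mul (H.comm_z hq) hA (H.acts_mem hq))
    fun v _ => rfl
  have htQ : t ∉ Q := fun h => by
    have := H.acts_unique hAt (H.acts_mem h) 4 (by norm_num)
    revert this; decide
  have hSt : LXFam.Sing z t := ⟨g, hg⟩
  have hQt : lxQ Q z t = Q.map (MulAut.conj g).toMonoidHom := by
    rw [← hg]; exact H69.lxQ_self H.pre H.hcen g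
  -- `z`, `s`, `s z` are not in the subgroup attached to `t`
  have notQs : ∀ q' ∈ Q, co q' ≠ 0 → co q' ≠ 1 →
      r * q' ∉ lxQ Q z s := by
    intro q' hq' h0 h1 hmem
    have hm : q' ∈ lxQ Q z s := by
      have := mul_mem (inv_mem (mem_Rs.mp hr).1) hmem
      rwa [inv_mul_cancel_left] at this
    rcases H.inter_cases hs hs1 hq' hm with h | h
    exacts [h0 h, h1 h]
  have nz : z ∉ lxQ Q z t := fun h => htQ (by
    have := H.fam.orth_symm hSt ⟨1, by group⟩ h
    rwa [H.lxQ_z] at this)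
  have hsS := H.sing_one hs hs1
  have ns : s ∉ lxQ Q z t := fun h =>
    notQs q hq (by rcases hqv with e | e <;> rw [e] <;> decide)
      (by rcases hqv with e | e <;> rw [e] <;> decide) (H.fam.orth_symm hSt hsS h)
  have nsz : s * z ∉ lxQ Q z t := fun h => by
    obtain ⟨x, hx, hx4⟩ := H.surj 4 (by norm_num)
    have hxs : x * s * x⁻¹ = s * z := H.flip hx hs (by rw [hx4, hs1]; decide)
    have hszS : LXFam.Sing z (s * z) :=
      H.sing_z (mul_mem hs H.zmem) (by rw [H.co_mul_z hs, hs1]; rfl)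
        (by rw [H.co_mul_z hs, hs1]; decide)
    have h1 := H.fam.orth_symm hSt hszS h
    rw [← hxs] at h1
    have h2 := H.fam.mem_Q_conj' x h1
    obtain ⟨q', hq', e, e'⟩ := H.shift hs hs1 hr hA hq (inv_mem hx)
    rw [inv_inv] at e'
    rw [e'] at h2
    rw [H.co_inv hx, hx4] at e
    refine notQs q' hq' ?_ ?_ h2 <;> rw [e] <;>
      rcases hqv with hh | hh <;> rw [hh] <;> decide
  -- centraliser of `t` in `Q`
  obtain ⟨p, hp, hp17, hpr, hpq⟩ := H.exists_flip hs hs1 hr hA hq hinv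
    (by rcases hqv with h | h <;> rw [h] <;> decide) (by rcases hqv with h | h <;> rw [h] <;> decide)
  have hflip : t * p * t⁻¹ = p * z := by
    have e1 : p * t * p⁻¹ = t * z := by
      calc p * t * p⁻¹ = (p * r * p⁻¹) * (p * q * p⁻¹) := by rw [ht]; group
        _ = t * z := by rw [hpq, hpr.eq, mul_inv_cancel_right, ← mul_assoc]
    rw [mul_inv_eq_iff_eq_mul] at e1
    calc t * p * t⁻¹ = z⁻¹ * ((t * z * p) * t⁻¹) := by
          rw [htz.eq]; group
      _ = z⁻¹ * p := by rw [← e1, mul_inv_cancel_right]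
      _ = p * z := by rw [H.z_inv, (H.comm_z hp).eq]
  have lift : ∀ v, v < 64 → un 16 v = v → ∃ y ∈ Q, Commute y t ∧ (co y = v ∨ co y = v ^^^ 16) := by
    intro v hv hvf
    obtain ⟨y, hy, rfl⟩ := H.surj v hv
    rcases H.co_eq hy (H.nor t htz.eq y hy) (by rw [hAt y hy, hvf]) with e | e
    · exact ⟨y, hy, (mul_inv_eq_iff_eq_mul.mp e).symm, Or.inl rfl⟩
    · refine ⟨y * (p * s), mul_mem hy (mul_mem hp hs), Commute.symm (mul_inv_eq_iff_eq_mul.mp ?_),
        Or.inr ?_⟩
      · calc t * (y * (p * s)) * t⁻¹ = (t * y * t⁻¹) * (t * p * t⁻¹) * (t * s * t⁻¹) := by group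
          _ = y * z * (p * z) * s := by rw [e, hflip, hts.eq, mul_inv_cancel_right]
          _ = y * (p * s) := by
              rw [(H.comm_z hp).eq, ← mul_assoc (y * z) z p, H.mul_z_mul_z, mul_assoc]
      · rw [H.mul _ hy _ (mul_mem hp hs), H.mul _ hp _ hs, hp17, hs1]; rfl
  obtain ⟨y₂, hy₂, hy₂t, hy₂v⟩ := lift 2 (by norm_num) (by decide)
  obtain ⟨y₈, hy₈, hy₈t, hy₈v⟩ := lift 8 (by norm_num) (by decide)
  have hy₂' : co y₂ ∈ [(2 : ℕ), 18] := by
    rcases hy₂v with h | h <;> rw [h] <;> decide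
  have hy₈' : co y₈ ∈ [(8 : ℕ), 24] := by
    rcases hy₈v with h | h <;> rw [h] <;> decide
  -- the two centralisers commute
  have hXn : ∀ x ∈ Q, Commute x t → ∀ y ∈ lxQ Q z t, Commute y z →
      x * y * x⁻¹ * y⁻¹ ∈ Q ∧ x * y * x⁻¹ * y⁻¹ ∈ lxQ Q z t := by
    intro x hx hxt y hy hyz
    refine ⟨?_, mul_mem (H.fam.conj_mem hy hxt) (inv_mem hy)⟩
    have := mul_mem hx (H.nor y hyz.eq _ (inv_mem hx))
    simpa [mul_assoc] using this
  have hinter : ∀ d ∈ Q, Commute d t → d ∈ lxQ Q z t → d = 1 := by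
    intro d hd hdt hd'
    have hcentral : ∀ x ∈ Q, Commute x t → Commute x d := by
      intro x hx hxt
      have h1 : x * d * x⁻¹ ∈ lxQ Q z t := H.fam.conj_mem hd' hxt
      have h2 := H.comm_ite hx hd
      cases hB : Bb (co x) (co d) <;> rw [hB] at h2
      · exact mul_inv_eq_iff_eq_mul.mp h2
      · rw [if_pos rfl] at h2
        rw [h2] at h1
        exact absurd (by simpa using mul_mem (inv_mem hd') h1) nz
    have hf : un 16 (co d) = co d := by
      rw [← hAt d hd, hdt.symm.eq, mul_inv_cancel_right]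
    have hm := radical_sixteen _ (H.lt d) hf _ hy₂' _ hy₈'
      (by rw [Bb_comm, ← H.commute_iff hy₂ hd]; exact hcentral y₂ hy₂ hy₂t)
      (by rw [Bb_comm, ← H.commute_iff hy₈ hd]; exact hcentral y₈ hy₈ hy₈t)
    have hno : ∀ e : G, Commute e s → Commute e t → e ∈ Q → co e = 17 → False := by
      intro e _ het he hev
      rcases H.co_eq hp he (by rw [hp17, hev]) with rfl | rfl
      · rw [het.symm.eq, mul_inv_cancel_right] at hflip
        exact H.z_ne (mul_eq_left.mp hflip.symm)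
      · have hpt : Commute p t := by
          have := het.mul_left htz.symm
          rwa [H.mul_z_mul_z] at this
        rw [hpt.symm.eq, mul_inv_cancel_right] at hflip
        exact H.z_ne (mul_eq_left.mp hflip.symm)
    have hds : Commute d s := (hcentral s hs hts.symm).symm
    simp only [List.mem_cons, List.not_mem_nil, or_false] at hm
    rcases hm with h | h | h | h
    · rcases H.ker d hd h with e | e
      · exact e
      · exact absurd (e ▸ hd') nz
    · rcases H.co_eq hs hd (by rw [hs1, h]) with e | e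
      · exact absurd (e ▸ hd') ns
      · exact absurd (e ▸ hd') nsz
    · exact absurd (hno (d * s) (hds.mul_left (Commute.refl s)) (hdt.mul_left hts.symm)
        (mul_mem hd hs) (by rw [H.mul _ hd _ hs, h, hs1]; rfl)) id
    · exact absurd (hno d hds hdt hd h) id
  have hXY : ∀ x ∈ Q, Commute x t → ∀ y ∈ lxQ Q z t, Commute y z → Commute x y := by
    intro x hx hxt y hy hyz
    obtain ⟨h1, h2⟩ := hXn x hx hxt y hy hyz
    have hyt : Commute y t := H.fam.hcomm t y hy
    have := hinter _ h1 (((hxt.mul_left hyt).mul_left hxt.inv_left).mul_left hyt.inv_left) h2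
    exact mul_inv_eq_iff_eq_mul.mp (mul_inv_eq_one.mp this)
  -- count
  have hcz : Commute (g⁻¹ * z * g) z := by
    show g⁻¹ * z * g * z = z * (g⁻¹ * z * g)
    calc g⁻¹ * z * g * z = g⁻¹ * (z * (g * z * g⁻¹)) * g := by group
      _ = g⁻¹ * ((g * z * g⁻¹) * z) * g := by rw [hg, htz.eq]
      _ = z * (g⁻¹ * z * g) := by group
  have h16 := H.two_count hs hs1 (c := g⁻¹ * z * g)
    (by rw [show g⁻¹ * z * g * (g⁻¹ * z * g) = g⁻¹ * (z * z) * g by group, H.zz]; group) hcz
  classical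
  let T := {x : G // x ∈ Q ∧ Commute x (g⁻¹ * z * g)}
  have mem : ∀ x : T, g * x.1 * g⁻¹ ∈ lxQ Q z t ∧ Commute (g * x.1 * g⁻¹) z := fun x => by
    refine ⟨by rw [hQt]; exact ⟨x.1, x.2.1, rfl⟩, ?_⟩
    show g * x.1 * g⁻¹ * z = z * (g * x.1 * g⁻¹)
    calc g * x.1 * g⁻¹ * z = g * (x.1 * (g⁻¹ * z * g)) * g⁻¹ := by group
      _ = g * (g⁻¹ * z * g * x.1) * g⁻¹ := by rw [x.2.2.eq]
      _ = z * (g * x.1 * g⁻¹) := by group
  have actdata : ∀ x : T, ∃ h : ℕ → ℕ, Acts Q co (g * x.1 * g⁻¹) h ∧ IsIso h ∧ h 1 = 1 ∧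
      h (co y₂) = co y₂ ∧ h (co y₈) = co y₈ ∧ (h 16, h 32, h 4) ∈ cand (co y₂) (co y₈) := by
    intro x
    obtain ⟨hy, hyz⟩ := mem x
    obtain ⟨h, hh, I⟩ := H.exists_act hyz
    have hfix : ∀ u ∈ Q, Commute u t → h (co u) = co u := fun u hu hut => by
      rw [← hh u hu, (hXY u hu hut _ hy hyz).symm.eq, mul_inv_cancel_right]
    have f1 : h 1 = 1 := by
      have := hfix s hs hts.symm
      rwa [hs1] at this
    have f2 := hfix y₂ hy₂ hy₂t
    have f8 := hfix y₈ hy₈ hy₈t
    have hyt : Commute (g * x.1 * g⁻¹) t := H.fam.hcomm t _ hy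
    have h16v : h 16 = 16 ∨ h 16 = 17 := by
      obtain ⟨u, hu, hu4⟩ := H.surj 4 (by norm_num)
      have e : h (un 16 4) = un 16 (h 4) := by
        rw [← hu4, ← hAt u hu, ← hh _ (H.nor t htz.eq u hu), ← hh u hu,
          ← hAt _ (H.nor _ hyz.eq u hu)]
        congr 1
        calc g * x.1 * g⁻¹ * (t * u * t⁻¹) * (g * x.1 * g⁻¹)⁻¹
            = (g * x.1 * g⁻¹ * t) * u * (g * x.1 * g⁻¹ * t)⁻¹ := by group
          _ = (t * (g * x.1 * g⁻¹)) * u * (t * (g * x.1 * g⁻¹))⁻¹ := by rw [hyt.eq]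
          _ = _ := by group
      have e17 : h (16 ^^^ 1) = un 16 (h 4) ^^^ h 4 := by
        rw [← e, ← I.add _ (by decide) _ (by norm_num)]; rfl
      rw [I.add 16 (by norm_num) 1 (by norm_num), f1] at e17
      have hm := im_sixteen _ (I.lt 4 (by norm_num))
      rw [← e17] at hm
      have hne0 : h 16 ≠ 0 := fun h0 => by
        have := I.map_B (m := 16) (n := 32) (by norm_num) (by norm_num)
        rw [h0, Bb_zero_left] at this; revert this; decide
      have hne1 : h 16 ≠ 1 := fun h0 => by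
        have := I.form 16 (by norm_num)
        rw [h0] at this; revert this; decide
      simp only [List.mem_cons, List.not_mem_nil, or_false] at hm
      have hx : h 16 = (h 16 ^^^ 1) ^^^ 1 := (xor_cancel _ _).symm
      rcases hm with e0 | e0 | e0 | e0 <;> rw [e0] at hx
      · exact absurd hx hne1
      · exact absurd hx hne0
      · exact Or.inr hx
      · exact Or.inl hx
    have B32 := fun v (hv : v < 64) => I.map_B (m := 32) (n := v) (by norm_num) hv
    have B4 := fun v (hv : v < 64) => I.map_B (m := 4) (n := v) (by norm_num) hv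
    refine ⟨h, hh, I, f1, f2, f8, ?_⟩
    simp only [cand, List.mem_flatMap, List.mem_map, List.mem_filter, List.mem_range,
      Bool.and_eq_true, Bool.not_eq_true', beq_iff_eq]
    refine ⟨h 16, by rcases h16v with e | e <;> rw [e] <;> decide, h 32,
      ⟨I.lt _ (by norm_num), ⟨?_, ?_⟩, ?_, ?_, ?_⟩, h 4,
      ⟨I.lt _ (by norm_num), ⟨?_, ?_⟩, ?_, ?_, ?_, ?_⟩, rfl⟩
    · rw [I.form 32 (by norm_num)]; decide
    · have := B32 1 (by norm_num); rw [f1] at this; rw [this]; decide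
    · exact B32 16 (by norm_num)
    · have := B32 _ (H.lt y₂); rwa [f2] at this
    · have := B32 _ (H.lt y₈); rwa [f8] at this
    · rw [I.form 4 (by norm_num)]; decide
    · have := B4 1 (by norm_num); rw [f1] at this; rw [this]; decide
    · exact B4 16 (by norm_num)
    · exact B4 32 (by norm_num)
    · have := B4 _ (H.lt y₂); rwa [f2] at this
    · have := B4 _ (H.lt y₈); rwa [f8] at this
  choose h hh hI h1 h2 h8 hc using actdata
  let f : T → {p // p ∈ (cand (co y₂) (co y₈)).toFinset} := fun x =>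
    ⟨(h x 16, h x 32, h x 4), List.mem_toFinset.mpr (hc x)⟩
  have hf : Function.Injective f := by
    intro x x' e
    have e' := congrArg Subtype.val e
    simp only [f, Prod.mk.injEq] at e'
    obtain ⟨e16, e32, e4⟩ := e'
    have hall := (hI x).ext_six (hI x') hy₂' hy₈' (by rw [h1, h1]) (by rw [h2, h2]) e4
      (by rw [h8, h8]) e16 e32
    obtain ⟨m1, m2⟩ := mem x
    obtain ⟨m1', m2'⟩ := mem x'
    have hd := H.mem_of_acts_eq m2 m2' (hh x) (H.acts_congr (hh x') fun v hv => (hall v hv).symm)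
    have hd1 := hinter _ hd (((H.fam.hcomm t _ m1).inv_left).mul_left (H.fam.hcomm t _ m1'))
      (mul_mem (inv_mem m1) m1')
    exact Subtype.ext (mul_left_cancel (mul_right_cancel (inv_mul_eq_one.mp hd1)))
  have hle := Nat.card_le_card_of_injective f hf
  rw [Nat.card_eq_fintype_card (α := {p // p ∈ (cand (co y₂) (co y₈)).toFinset}),
    Fintype.card_coe] at hle
  have := (cand (co y₂) (co y₈)).toFinset_card_le
  have := cand_le _ hy₂' _ hy₈'
  have : 16 ≤ Nat.card T := h16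
  omega

end Data

end H73.Suz
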